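import Mathlib.AlgebraicGeometry.Morphisms.SchemeTheoreticallyDominant
import Mathlib.AlgebraicGeometry.Limits
import Mathlib.AlgebraicGeometry.Morphisms.UnderlyingMap

/-! Surjective scheme-theoretically dominant morphisms are epimorphisms. -/

universe u

namespace Groth.Agent.LieSLib

open CategoryTheory CategoryTheory.Limits AlgebraicGeometry

theorem hom_eq_of_surjective {W X Z : Scheme.{u}} (f : W ⟶ X) [IsSchemeTheoreticallyDominant f]
    [QuasiCompact f] [Surjective f] {g h : X ⟶ Z} (e : f ≫ g = f ≫ h) : g = h := by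
  have hb : g.base = h.base := by
    ext x
    obtain ⟨w, rfl⟩ := f.surjective x
    exact congrArg (fun k : W ⟶ Z => k w) e
  have hle : ∀ (U : Z.Opens) (V : X.Opens) (e₁ : V ≤ g ⁻¹ᵁ U) (e₂ : V ≤ h ⁻¹ᵁ U),
      g.appLE U V e₁ = h.appLE U V e₂ := by
    intro U V e₁ e₂
    ext x
    apply f.app_injective V
    rw [← ConcreteCategory.comp_apply, ← ConcreteCategory.comp_apply, f.app_eq_appLE,
      Scheme.Hom.appLE_comp_appLE, Scheme.Hom.appLE_comp_appLE]
    congr 2
    simp_rw [e]
  refine Scheme.Hom.ext hb fun U => ?_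
  have hU : h ⁻¹ᵁ U = g ⁻¹ᵁ U := by
    ext x
    simp [hb]
  change g.appLE U (h ⁻¹ᵁ U) hU.le = _
  rw [hle U _ hU.le le_rfl, Scheme.Hom.appLE_eq_app]

theorem isSchemeTheoreticallyDominant_spec {D E : Type u} [CommRing D] [CommRing E] (φ : D →+* E)
    (hφ : Function.Injective φ) : IsSchemeTheoreticallyDominant (Spec.map (CommRingCat.ofHom φ)) := by
  refine ⟨?_⟩
  have hinj : Function.Injective (Spec.map (CommRingCat.ofHom φ)).appTop := by
    intro a b hab
    apply (Scheme.ΓSpecIso (CommRingCat.of D)).commRingCatIsoToRingEquiv.injective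
    apply hφ
    have h := Scheme.ΓSpecIso_naturality (CommRingCat.ofHom φ)
    have ha := congrArg (fun k => k.hom a) h
    have hb := congrArg (fun k => k.hom b) h
    simp only [CommRingCat.hom_comp, RingHom.comp_apply, CommRingCat.hom_ofHom] at ha hb
    exact ha.symm.trans ((congrArg _ hab).trans hb)
  rw [Scheme.ker_of_isAffine,
    (RingHom.injective_iff_ker_eq_bot _).mp hinj]
  refine eq_bot_iff.mpr fun U => ?_
  rw [Scheme.IdealSheafData.ofIdealTop_ideal, Ideal.map_bot]
  exact bot_le

/-- Morphisms out of `Spec D` are determined by a family of one injective, spectrum-surjective ring map. -/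
theorem hom_eq_of_injective {D E : Type u} [CommRing D] [CommRing E] (φ : D →+* E) (hφ : Function.Injective φ)
    (hs : Function.Surjective (PrimeSpectrum.comap φ)) {Z : Scheme.{u}} {g h : Spec (CommRingCat.of D) ⟶ Z}
    (e : Spec.map (CommRingCat.ofHom φ) ≫ g = Spec.map (CommRingCat.ofHom φ) ≫ h) : g = h := by
  have := isSchemeTheoreticallyDominant_spec φ hφ
  have : Surjective (Spec.map (CommRingCat.ofHom φ)) := ⟨hs⟩
  exact hom_eq_of_surjective _ e

/-- Morphisms out of `Spec D` are determined by a jointly injective, jointly surjective pair. -/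
theorem hom_eq_of_pair {D E₁ E₂ : Type u} [CommRing D] [CommRing E₁] [CommRing E₂] (φ₁ : D →+* E₁)
    (φ₂ : D →+* E₂) (hφ : Function.Injective (φ₁.prod φ₂)) (hs : Function.Surjective (PrimeSpectrum.comap φ₁))
    {Z : Scheme.{u}} {g h : Spec (CommRingCat.of D) ⟶ Z}
    (e₁ : Spec.map (CommRingCat.ofHom φ₁) ≫ g = Spec.map (CommRingCat.ofHom φ₁) ≫ h)
    (e₂ : Spec.map (CommRingCat.ofHom φ₂) ≫ g = Spec.map (CommRingCat.ofHom φ₂) ≫ h) : g = h := by
  refine hom_eq_of_injective (φ₁.prod φ₂) hφ (fun p => ?_) ?_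
  · obtain ⟨q, rfl⟩ := hs p
    exact ⟨PrimeSpectrum.comap (RingHom.fst E₁ E₂) q, rfl⟩
  · rw [← cancel_epi (coprodSpec E₁ E₂)]
    apply coprod.hom_ext
    · simp only [← Category.assoc, coprodSpec_inl]
      rw [← Spec.map_comp]
      exact e₁
    · simp only [← Category.assoc, coprodSpec_inr]
      rw [← Spec.map_comp]
      exact e₂

end Groth.Agent.LieSLib
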