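import Groth.Prelude.Def_LieS
import Groth.Agent.LieSLib.Epi
import Mathlib.Algebra.TrivSqZeroExt.Basic
import Mathlib.LinearAlgebra.Prod

/-! The kernel of `X(I_T) → X(T)`: the group law is addition. -/

universe u

namespace Groth.Agent.LieSLib

open CategoryTheory CategoryTheory.Limits AlgebraicGeometry MonoidalCategory CartesianMonoidalCategory MonObj

variable {B : Type u} [CommRing B]

section TrivSq

variable {M : Type u} [AddCommGroup M] [Module B M] [Module Bᵐᵒᵖ M] [IsCentralScalar B M]

theorem comap_fstHom_surjective :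
    Function.Surjective (PrimeSpectrum.comap (TrivSqZeroExt.fstHom B B M).toRingHom) := by
  intro p
  refine ⟨PrimeSpectrum.comap (TrivSqZeroExt.inlHom B M) p, ?_⟩
  ext x
  have hm : ∀ m : M, (TrivSqZeroExt.inr m : TrivSqZeroExt B M) ∈ p.asIdeal := fun m =>
    p.2.mem_of_pow_mem 2 (by rw [pow_two, TrivSqZeroExt.inr_mul_inr]; exact zero_mem _)
  change TrivSqZeroExt.inl x.fst ∈ p.asIdeal ↔ x ∈ p.asIdeal
  conv_rhs => rw [← TrivSqZeroExt.inl_fst_add_inr_snd_eq x]
  exact (Ideal.add_mem_iff_left _ (hm _)).symm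

end TrivSq

variable {S : Scheme.{u}} (f : Spec (CommRingCat.of B) ⟶ S)

section Tpt

variable {M N : Type u} [AddCommGroup M] [Module B M] [Module Bᵐᵒᵖ M] [IsCentralScalar B M]
  [AddCommGroup N] [Module B N] [Module Bᵐᵒᵖ N] [IsCentralScalar B N]

variable (M) in
/-- The first order thickening `Spec (B ⊕ M)` over `T = Spec B`. -/
noncomputable def tpt : Over S :=
  Over.mk (Spec.map (CommRingCat.ofHom (algebraMap B (TrivSqZeroExt B M))) ≫ f)

/-- Functoriality in the module. -/
noncomputable def tmap (l : M →ₗ[B] N) : tpt f N ⟶ tpt f M :=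
  Over.homMk (Spec.map (CommRingCat.ofHom (TrivSqZeroExt.map l).toRingHom)) (by
    change Spec.map _ ≫ Spec.map _ ≫ f = Spec.map _ ≫ f
    rw [← Category.assoc, LieS.specMap_comp, AlgHom.toRingHom_eq_coe, AlgHom.comp_algebraMap])

theorem tmap_left (l : M →ₗ[B] N) :
    (tmap f l).left = Spec.map (CommRingCat.ofHom (TrivSqZeroExt.map l).toRingHom) := rfl

theorem tmap_comp {P : Type u} [AddCommGroup P] [Module B P] [Module Bᵐᵒᵖ P] [IsCentralScalar B P]
    (l : M →ₗ[B] N) (l' : N →ₗ[B] P) : tmap f l' ≫ tmap f l = tmap f (l' ∘ₗ l) := by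
  refine Over.OverMorphism.ext ?_
  change Spec.map _ ≫ Spec.map _ = Spec.map _
  rw [LieS.specMap_comp, TrivSqZeroExt.map_comp_map]
  rfl

theorem tmap_id : tmap f (LinearMap.id : M →ₗ[B] M) = 𝟙 _ := by
  refine Over.OverMorphism.ext ?_
  rw [tmap_left, TrivSqZeroExt.map_id]
  exact Spec.map_id _

end Tpt

/-- The rescaling of the dual coordinate is `tmap` of a homothety. -/
theorem tmap_scale (b : B) :
    (tmap f (b • LinearMap.id : B →ₗ[B] B) : LieS.dpt B f ⟶ LieS.dpt B f) = LieS.scale B f b := by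
  refine Over.OverMorphism.ext ?_
  change Spec.map _ = Spec.map _
  congr 2
  refine RingHom.ext fun x => TrivSqZeroExt.ext ?_ ?_
  · simp [LieS.scaleHom, TrivSqZeroExt.algebraMap_eq_inl']
  · simp [LieS.scaleHom, TrivSqZeroExt.algebraMap_eq_inl', mul_comm]

theorem scale_one : LieS.scale B f 1 = 𝟙 _ := by
  rw [← tmap_scale, one_smul, tmap_id]; rfl

theorem scale_zero : LieS.scale B f 0 = LieS.proj B f ≫ LieS.zeroSec B f := by
  refine Over.OverMorphism.ext ?_
  rw [Over.comp_left]
  change Spec.map _ = Spec.map _ ≫ Spec.map _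
  rw [LieS.specMap_comp]
  congr 2
  refine RingHom.ext fun x => TrivSqZeroExt.ext ?_ ?_ <;>
    simp [LieS.scaleHom, TrivSqZeroExt.algebraMap_eq_inl']

theorem scale_scale (b c : B) : LieS.scale B f b ≫ LieS.scale B f c = LieS.scale B f (b * c) := by
  rw [← tmap_scale, ← tmap_scale, ← tmap_scale]
  refine (tmap_comp f _ _).trans (congrArg _ (LinearMap.ext fun x => ?_))
  simp only [LinearMap.comp_apply, LinearMap.smul_apply, LinearMap.id_apply, smul_eq_mul]
  ring

/-- A point of `tpt (B × B)` is determined by its two restrictions. -/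
theorem tpt_hom_ext {X : Over S} {g h : tpt f (B × B) ⟶ X}
    (e₁ : tmap f (LinearMap.fst B B B) ≫ g = tmap f (LinearMap.fst B B B) ≫ h)
    (e₂ : tmap f (LinearMap.snd B B B) ≫ g = tmap f (LinearMap.snd B B B) ≫ h) : g = h := by
  refine Over.OverMorphism.ext (hom_eq_of_pair (TrivSqZeroExt.map (LinearMap.fst B B B)).toRingHom
    (TrivSqZeroExt.map (LinearMap.snd B B B)).toRingHom ?_ ?_ (congrArg CommaMorphism.left e₁)
    (congrArg CommaMorphism.left e₂))
  · intro x y hxy
    have h₁ := congrArg Prod.fst hxy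
    have h₂ := congrArg Prod.snd hxy
    refine TrivSqZeroExt.ext ?_ (Prod.ext ?_ ?_)
    · simpa using congrArg TrivSqZeroExt.fst h₁
    · simpa using congrArg TrivSqZeroExt.snd h₁
    · simpa using congrArg TrivSqZeroExt.snd h₂
  · intro p
    obtain ⟨q, rfl⟩ := comap_fstHom_surjective p
    refine ⟨PrimeSpectrum.comap (TrivSqZeroExt.fstHom B B B).toRingHom q, ?_⟩
    rw [← PrimeSpectrum.comap_comp_apply]
    congr 1
    exact RingHom.ext fun x => by simp

variable (X : Over S) [MonObj X]

theorem scale_zero_comp {v : LieS.dpt B f ⟶ X} (hv : LieS.zeroSec B f ≫ v = 1) :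
    LieS.scale B f 0 ≫ v = 1 := by
  rw [scale_zero, Category.assoc, hv, MonObj.comp_one]

theorem scale_add {v : LieS.dpt B f ⟶ X} (hv : LieS.zeroSec B f ≫ v = 1) (b c : B) :
    LieS.scale B f (b + c) ≫ v = (LieS.scale B f b ≫ v) * (LieS.scale B f c ≫ v) := by
  let w : tpt f B ⟶ X := v
  have h0 : tmap f ((0 : B) • LinearMap.id : B →ₗ[B] B) ≫ w = 1 := by
    rw [tmap_scale]; exact scale_zero_comp f X hv
  have h1 : tmap f ((1 : B) • LinearMap.id : B →ₗ[B] B) ≫ w = w := by
    rw [one_smul, tmap_id, Category.id_comp]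
  let inl := LinearMap.inl B B B
  let inr := LinearMap.inr B B B
  have key : tmap f (inl + inr) ≫ w = (tmap f inl ≫ w) * (tmap f inr ≫ w) := by
    refine tpt_hom_ext f ?_ ?_
    · rw [MonObj.comp_mul, ← Category.assoc, ← Category.assoc, ← Category.assoc, tmap_comp, tmap_comp, tmap_comp,
        show LinearMap.fst B B B ∘ₗ (inl + inr) = (1 : B) • LinearMap.id from by ext; simp [inl, inr],
        show LinearMap.fst B B B ∘ₗ inl = (1 : B) • LinearMap.id from by ext; simp [inl],
        show LinearMap.fst B B B ∘ₗ inr = (0 : B) • LinearMap.id from by ext; simp [inr], h0, h1, _root_.mul_one]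
    · rw [MonObj.comp_mul, ← Category.assoc, ← Category.assoc, ← Category.assoc, tmap_comp, tmap_comp, tmap_comp,
        show LinearMap.snd B B B ∘ₗ (inl + inr) = (1 : B) • LinearMap.id from by ext; simp [inl, inr],
        show LinearMap.snd B B B ∘ₗ inl = (0 : B) • LinearMap.id from by ext; simp [inl],
        show LinearMap.snd B B B ∘ₗ inr = (1 : B) • LinearMap.id from by ext; simp [inr], h0, h1, _root_.one_mul]
  let t : (B × B) →ₗ[B] B := (b • LinearMap.id).coprod (c • LinearMap.id)
  have := congrArg (fun k => tmap f t ≫ k) key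
  simp only [MonObj.comp_mul, ← Category.assoc, tmap_comp] at this
  rw [show t ∘ₗ (inl + inr) = (b + c) • LinearMap.id from by ext; simp [t, inl, inr],
    show t ∘ₗ inl = b • LinearMap.id from by ext; simp [t, inl],
    show t ∘ₗ inr = c • LinearMap.id from by ext; simp [t, inr], tmap_scale, tmap_scale, tmap_scale] at this
  exact this

theorem mul_comm_of_zeroSec {v v' : LieS.dpt B f ⟶ X} (hv : LieS.zeroSec B f ≫ v = 1)
    (hv' : LieS.zeroSec B f ≫ v' = 1) : v * v' = v' * v := by
  let w : tpt f B ⟶ X := v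
  let w' : tpt f B ⟶ X := v'
  have h0 : tmap f ((0 : B) • LinearMap.id : B →ₗ[B] B) ≫ w = 1 := by
    rw [tmap_scale]; exact scale_zero_comp f X hv
  have h0' : tmap f ((0 : B) • LinearMap.id : B →ₗ[B] B) ≫ w' = 1 := by
    rw [tmap_scale]; exact scale_zero_comp f X hv'
  let inl := LinearMap.inl B B B
  let inr := LinearMap.inr B B B
  have key : (tmap f inl ≫ w) * (tmap f inr ≫ w') = (tmap f inr ≫ w') * (tmap f inl ≫ w) := by
    refine tpt_hom_ext f ?_ ?_
    · rw [MonObj.comp_mul, MonObj.comp_mul, ← Category.assoc, ← Category.assoc, tmap_comp, tmap_comp,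
        show LinearMap.fst B B B ∘ₗ inr = (0 : B) • LinearMap.id from by ext; simp [inr], h0', _root_.mul_one,
        _root_.one_mul]
    · rw [MonObj.comp_mul, MonObj.comp_mul, ← Category.assoc, ← Category.assoc, tmap_comp, tmap_comp,
        show LinearMap.snd B B B ∘ₗ inl = (0 : B) • LinearMap.id from by ext; simp [inl], h0, _root_.mul_one,
        _root_.one_mul]
  let t : (B × B) →ₗ[B] B := LinearMap.id.coprod LinearMap.id
  have := congrArg (fun k => tmap f t ≫ k) key
  simp only [MonObj.comp_mul, ← Category.assoc, tmap_comp] at this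
  rw [show t ∘ₗ inl = LinearMap.id from by ext; simp [t, inl],
    show t ∘ₗ inr = LinearMap.id from by ext; simp [t, inr], tmap_id, Category.id_comp, Category.id_comp] at this
  exact this

theorem mul_scale_neg_one {v : LieS.dpt B f ⟶ X} (hv : LieS.zeroSec B f ≫ v = 1) :
    v * (LieS.scale B f (-1) ≫ v) = 1 ∧ (LieS.scale B f (-1) ≫ v) * v = 1 := by
  have h : LieS.scale B f 1 ≫ v = v := by rw [scale_one, Category.id_comp]
  constructor
  · have := scale_add f X hv 1 (-1)
    rwa [add_neg_cancel, scale_zero_comp f X hv, h, eq_comm] at this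
  · have := scale_add f X hv (-1) 1
    rwa [neg_add_cancel, scale_zero_comp f X hv, h, eq_comm] at this

end Groth.Agent.LieSLib
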